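import Cfsg.Agent.H713.TC.FiCl
import Cfsg.Agent.H26.Ore.Fi24Deg
import Cfsg.Agent.H935.Fi23.Deg
import Cfsg.Agent.H161.Rec.Fi24Facts
import Cfsg.Agent.H648.Loc.Value
import Cfsg.Agent.H813.K547.Par
import Cfsg.Agent.J3Type.CharTools
import Cfsg.Agent.CharDeep.CliffordCorr

/-!
# S4884, (`Fi24'`, 7): the sieve (helper713; plan of helper619)

* `exists_odd_of_char` : if the character 57477 is a constituent of a character of odd degree at most 71483 with an odd or
  negative value at the elements of order 23, then there is a nontrivial irreducible character of odd degree prime to 7.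
-/

set_option autoImplicit false
set_option linter.unusedSectionVars false
set_option maxRecDepth 100000

open Cfsg Subgroup

namespace Cfsg.Agent.H713.SB.FiSeven

open Cfsg.Agent Cfsg.Agent.Characters Cfsg.Agent.Characters.Core
open Cfsg.Agent.R08.FiTwentyFour (L facts mem_commutator_iff finite_Fi24 card_commutator)
open Cfsg.Agent.H713.TC.FiTF (x0 order_x0 cl)
open Cfsg.Agent.H511.Ore
open Cfsg.Spor (Fi24 Fi23)

universe u

theorem card_G : Nat.card Spor.Fi24' = 1255205709190661721292800 := card_commutator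

theorem fin : Finite Spor.Fi24' := Nat.finite_of_card_ne_zero (by rw [card_G]; norm_num)

/-! ### The degrees modulo 29 -/

theorem res29 (χ : IrrCharacter Spor.Fi24') : charDegree (χ : Spor.Fi24' → ℂ) % 29 = 0 ∨
    charDegree (χ : Spor.Fi24' → ℂ) % 29 = 1 ∨ charDegree (χ : Spor.Fi24' → ℂ) % 29 = 28 ∨
      charDegree (χ : Spor.Fi24' → ℂ) % 29 = 14 ∨ charDegree (χ : Spor.Fi24' → ℂ) % 29 = 15 := by
  have hfin : Finite Spor.Fi24' := fin
  have := H26.Ore.Fi24Deg.simple_F'
  have : Finite (IrrCharacter Spor.Fi24') := finite_irr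
  have := Fintype.ofFinite (IrrCharacter Spor.Fi24')
  have : Fact (Nat.Prime 29) := ⟨by norm_num⟩
  obtain ⟨x, hx, hc⟩ := H161.Rec.FiTF.cent29
  obtain ⟨P, W, -, -, -, hW⟩ := H653.Sieve.exists_col H26.Ore.Fi24Deg.not_comm card_G hx (k := 1) (by rw [hc]) 14 2
    [(0, 0), (1, 2), (14, -1), (15, 1), (28, -2)] 2 true (by decide +kernel)
  have h := hW.mem χ
  simp only [List.mem_cons, Prod.mk.injEq, List.not_mem_nil, or_false] at h
  rcases h with ⟨h, -⟩ | ⟨h, -⟩ | ⟨h, -⟩ | ⟨h, -⟩ | ⟨h, -⟩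
  exacts [Or.inl h, Or.inr (Or.inl h), Or.inr (Or.inr (Or.inr (Or.inl h))), Or.inr (Or.inr (Or.inr (Or.inr h))),
    Or.inr (Or.inr (Or.inl h))]

/-- the small degrees are divisible by 29 -/
theorem dvd29 {χ : IrrCharacter Spor.Fi24'} (hne : (χ : Spor.Fi24' → ℂ) ≠ 1)
    (h : charDegree (χ : Spor.Fi24' → ℂ) < 57477) : charDegree (χ : Spor.Fi24' → ℂ) % 29 = 0 := by
  have h1 := H26.Ore.Fi24Deg.hDN χ hne
  have h2 := H26.Ore.Fi24Deg.hDX χ hne
  rcases res29 χ with h3 | h3 | h3 | h3 | h3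
  · exact h3
  · have := h1 (Or.inl h3); omega
  · have := h1 (Or.inr h3); omega
  · have := h2 (Or.inl h3); omega
  · have := h2 (Or.inr h3); omega

/-! ### `Fi23`: the values at the elements of order 23 -/

theorem card23 : Nat.card Fi23 = 4089470473293004800 := LThreeFi23.card_G

theorem fin23 : Finite Fi23 := Nat.finite_of_card_ne_zero (by rw [card23]; norm_num)

theorem res23 (χ : IrrCharacter Fi23) : charDegree (χ : Fi23 → ℂ) % 23 = 0 ∨ charDegree (χ : Fi23 → ℂ) % 23 = 1 ∨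
    charDegree (χ : Fi23 → ℂ) % 23 = 22 ∨ charDegree (χ : Fi23 → ℂ) % 23 = 11 ∨ charDegree (χ : Fi23 → ℂ) % 23 = 12 := by
  have hfin : Finite Fi23 := fin23
  have := H856.F23.simp23
  have : Finite (IrrCharacter Fi23) := finite_irr
  have := Fintype.ofFinite (IrrCharacter Fi23)
  have : Fact (Nat.Prime 23) := ⟨by norm_num⟩
  obtain ⟨x, -, hx, hc⟩ := H935.Fi23.exists_x23
  obtain ⟨P, W, -, -, -, hW⟩ := H653.Sieve.exists_col H856.F23.not_comm23 card23 hx (k := 1) (by rw [hc]) 11 2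
    [(0, 0), (1, 2), (11, -1), (12, 1), (22, -2)] 2 true (by decide +kernel)
  have h := hW.mem χ
  simp only [List.mem_cons, Prod.mk.injEq, List.not_mem_nil, or_false] at h
  rcases h with ⟨h, -⟩ | ⟨h, -⟩ | ⟨h, -⟩ | ⟨h, -⟩ | ⟨h, -⟩
  exacts [Or.inl h, Or.inr (Or.inl h), Or.inr (Or.inr (Or.inr (Or.inl h))), Or.inr (Or.inr (Or.inr (Or.inr h))),
    Or.inr (Or.inr (Or.inl h))]

/-- a nontrivial character of `Fi23` of degree less than 30888 vanishes at the elements of order 23 -/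
theorem zero23 {χ : IrrCharacter Fi23} (hne : (χ : Fi23 → ℂ) ≠ 1) (h : charDegree (χ : Fi23 → ℂ) < 30888) {y : Fi23}
    (hy : orderOf y = 23) : (χ : Fi23 → ℂ) y = 0 := by
  have hfin : Finite Fi23 := fin23
  have h0 : charDegree (χ : Fi23 → ℂ) % 23 = 0 := by
    have h1 := H935.Fi23.degOn_ne χ hne
    have h2 := H935.Fi23.degOn_x χ hne
    unfold pNE at h1
    unfold pX at h2
    rcases res23 χ with h3 | h3 | h3 | h3 | h3
    · exact h3
    · rw [h3] at h1; have := h1 rfl; omega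
    · rw [h3] at h1; have := h1 rfl; omega
    · rw [h3] at h2; have := h2 rfl; omega
    · rw [h3] at h2; have := h2 rfl; omega
  exact H813.K547.vanish χ.2 (p := 23) (by norm_num) (by rw [card23]; norm_num) (by rw [card23]; norm_num)
    (Nat.dvd_of_mod_eq_zero h0) (by rw [hy])

/-- a character of `Fi23` of degree less than 30888 has a natural value at an element of order 23 -/
theorem nat23 {Θ : Fi23 → ℂ} (hΘ : IsCharacter Fi23 Θ) {n : ℕ} (hn : Θ 1 = n) (h : n < 30888) {y : Fi23}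
    (hy : orderOf y = 23) : ∃ m : ℕ, Θ y = m := by
  classical
  have hfin : Finite Fi23 := fin23
  have := Fintype.ofFinite Fi23
  have : Finite (IrrCharacter Fi23) := finite_irr
  have := Fintype.ofFinite (IrrCharacter Fi23)
  obtain ⟨c, hc, -⟩ := CharDeep.CliffordCorr.exists_nat_coeffs hΘ
  have hd : ∀ η : IrrCharacter Fi23, (η : Fi23 → ℂ) 1 = (charDegree (η : Fi23 → ℂ) : ℂ) := fun η =>
    Blocks.Knorr.charDegree_eq η.2
  have hsum : n = ∑ η : IrrCharacter Fi23, c η * charDegree (η : Fi23 → ℂ) := by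
    have h1 := congrFun hc 1
    rw [hn, Finset.sum_apply] at h1
    simp only [Pi.smul_apply, smul_eq_mul, hd] at h1
    exact_mod_cast h1
  have hval : Θ y = ∑ η : IrrCharacter Fi23, (c η : ℂ) * (η : Fi23 → ℂ) y := by
    have h1 := congrFun hc y
    rwa [Finset.sum_apply] at h1
  refine ⟨∑ η : IrrCharacter Fi23, if (η : Fi23 → ℂ) = 1 then c η else 0, ?_⟩
  rw [hval]
  push_cast
  refine Finset.sum_congr rfl fun η _ => ?_
  by_cases h1 : (η : Fi23 → ℂ) = 1
  · rw [if_pos h1, h1, Pi.one_apply, mul_one]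
  · rw [if_neg h1]
    rcases Nat.eq_zero_or_pos (c η) with h0 | h0
    · rw [h0]; simp
    · have h2 : c η * charDegree (η : Fi23 → ℂ) ≤ n := by
        rw [hsum]
        exact Finset.single_le_sum (f := fun η : IrrCharacter Fi23 => c η * charDegree (η : Fi23 → ℂ))
          (fun _ _ => Nat.zero_le _) (Finset.mem_univ η)
      have h3 : charDegree (η : Fi23 → ℂ) < 30888 := by nlinarith
      rw [zero23 h1 h3 hy, mul_zero]

/-! ### `Fi24'` -/

/-- the embedding of `Fi23` -/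
theorem phi_mem (x : Fi23) : facts.phi x ∈ commutator Fi24 := by
  rw [mem_commutator_iff, facts.sgn_phi]

noncomputable def emb : Fi23 →* Spor.Fi24' where
  toFun x := ⟨facts.phi x, phi_mem x⟩
  map_one' := Subtype.ext (map_one _)
  map_mul' x y := Subtype.ext (map_mul _ x y)

theorem emb_inj : Function.Injective emb := fun a b h => facts.phi_injective (congrArg Subtype.val h)

/-- the value at the elements of order 23 of a character of `Fi24'` of degree less than 30888 -/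
theorem val23 {χ : IrrCharacter Spor.Fi24'} (h : charDegree (χ : Spor.Fi24' → ℂ) < 30888) {y : Spor.Fi24'}
    (hy : orderOf y = 23) : (charDegree (χ : Spor.Fi24' → ℂ) % 23 = 0 ∧ (χ : Spor.Fi24' → ℂ) y = 0) ∨
      (charDegree (χ : Spor.Fi24' → ℂ) % 23 = 1 ∧ (χ : Spor.Fi24' → ℂ) y = 1) := by
  have hfin : Finite Spor.Fi24' := fin
  have hfin23 : Finite Fi23 := fin23
  have hp : Fact (Nat.Prime 23) := ⟨by norm_num⟩
  have hch := isIrr_isCharacter χ.2
  have hcf := isIrr_isClassFunction χ.2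
  have hd : (χ : Spor.Fi24' → ℂ) 1 = (charDegree (χ : Spor.Fi24' → ℂ) : ℂ) := Blocks.Knorr.charDegree_eq χ.2
  -- an element of `Fi23`
  obtain ⟨k, hk⟩ := exists_prime_orderOf_dvd_card' (G := Fi23) 23 (by rw [card23]; norm_num)
  have hek : orderOf (emb k) = 23 := by rw [orderOf_injective emb emb_inj, hk]
  have hres : IsCharacter Fi23 ((χ : Spor.Fi24' → ℂ) ∘ emb) := isCharacter_comp emb hch
  have hr1 : ((χ : Spor.Fi24' → ℂ) ∘ emb) 1 = (charDegree (χ : Spor.Fi24' → ℂ) : ℂ) := by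
    rw [Function.comp_apply, map_one, hd]
  have key : ∀ j : Fi23, orderOf j = 23 → ∃ m : ℕ, (χ : Spor.Fi24' → ℂ) (emb j) = m := fun j hj => nat23 hres hr1 h hj
  -- every element of order 23 has a natural value
  have hval : ∀ z : Spor.Fi24', orderOf z = 23 → ∃ m : ℕ, (χ : Spor.Fi24' → ℂ) z = m := by
    intro z hz
    obtain ⟨c, hc⟩ := cl hek
    obtain ⟨d, hd'⟩ := cl hz
    have hconj : ∀ g c : Spor.Fi24', (χ : Spor.Fi24' → ℂ) (c * g * c⁻¹) = (χ : Spor.Fi24' → ℂ) g := fun g c => hcf g c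
    have hx : ∃ j : Fi23, orderOf j = 23 ∧ (χ : Spor.Fi24' → ℂ) x0 = (χ : Spor.Fi24' → ℂ) (emb j) := by
      rcases hc with hc | hc
      · exact ⟨k, hk, by rw [hc, hconj]⟩
      · refine ⟨k⁻¹, by rw [orderOf_inv, hk], ?_⟩
        have e : emb k⁻¹ = c * x0 * c⁻¹ := by rw [map_inv, hc]; group
        rw [e, hconj]
    have hxi : ∃ j : Fi23, orderOf j = 23 ∧ (χ : Spor.Fi24' → ℂ) x0⁻¹ = (χ : Spor.Fi24' → ℂ) (emb j) := by
      rcases hc with hc | hc
      · refine ⟨k⁻¹, by rw [orderOf_inv, hk], ?_⟩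
        have e : emb k⁻¹ = c * x0⁻¹ * c⁻¹ := by rw [map_inv, hc]; group
        rw [e, hconj]
      · exact ⟨k, hk, by rw [hc, hconj]⟩
    rcases hd' with hd' | hd'
    · obtain ⟨j, hj, e⟩ := hx
      rw [hd', hconj, e]
      exact key j hj
    · obtain ⟨j, hj, e⟩ := hxi
      rw [hd', hconj, e]
      exact key j hj
  obtain ⟨m, hm⟩ := hval y hy
  have hm' : (χ : Spor.Fi24' → ℂ) y = ((m : ℤ) : ℂ) := by rw [hm]; push_cast; rfl
  have h1 : ((23 : ℕ) : ℤ) ∣ (m : ℤ) - (charDegree (χ : Spor.Fi24' → ℂ) : ℤ) := by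
    refine J3Type.CharTools.int_congr hch y hp.out hm' ?_
    rw [← hy, pow_orderOf_eq_one, hd]
    push_cast; rfl
  have h2 := H648.Loc.sq_le χ.2 hm'
  rw [H161.Rec.FiTF.sc23 y hy] at h2
  have h3 : m ≤ 4 := by
    by_contra hlt
    have : 5 ≤ m := by omega
    have : (25 : ℤ) ≤ (m : ℤ) ^ 2 := by
      have h5 : (5 : ℤ) ≤ m := by exact_mod_cast this
      nlinarith
    push_cast at h2
    omega
  have h4 := H26.Ore.Fi24Deg.res23 χ
  rw [hm]
  interval_cases m
  · left; refine ⟨by omega, by simp⟩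
  · right; refine ⟨by omega, by simp⟩
  · exfalso; omega
  · exfalso; omega
  · exfalso; omega

/-- the check of the degrees `29 k` -/
theorem chk : (List.range 483).all (fun k => !(1255205709190661721292800 % (29 * k) == 0) || k == 0 ||
    !((29 * k) % 23 == 0 || (29 * k) % 23 == 1) || !((29 * k) % 17 == 0 || (29 * k) % 17 == 1 || (29 * k) % 17 == 16) ||
      (k == 27 || k == 299 || k == 391 || k == 92 || k == 119)) = true := by decide +kernel

/-- the small degrees -/
theorem small {χ : IrrCharacter Spor.Fi24'} (hne : (χ : Spor.Fi24' → ℂ) ≠ 1)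
    (h : charDegree (χ : Spor.Fi24' → ℂ) ≤ 14006)
    (hno : 2 ∣ charDegree (χ : Spor.Fi24' → ℂ) ∨ 7 ∣ charDegree (χ : Spor.Fi24' → ℂ)) {y : Spor.Fi24'}
    (hy : orderOf y = 23) : (2 ∣ charDegree (χ : Spor.Fi24' → ℂ) ∧ (χ : Spor.Fi24' → ℂ) y = 0) ∨
      (¬ 2 ∣ charDegree (χ : Spor.Fi24' → ℂ) ∧ (χ : Spor.Fi24' → ℂ) y = 1) := by
  have hfin : Finite Spor.Fi24' := fin
  have h29 := dvd29 hne (by omega)
  have h17 := H26.Ore.Fi24Deg.res17 χ
  have h23 := val23 (χ := χ) (by omega) hy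
  have hdv : charDegree (χ : Spor.Fi24' → ℂ) ∣ 1255205709190661721292800 := by
    rw [← card_G]
    exact Blocks.Knorr.charDegree_dvd χ.2
  have hpos : charDegree (χ : Spor.Fi24' → ℂ) ≠ 0 := by
    intro h0
    rw [h0] at hdv
    exact absurd (Nat.eq_zero_of_zero_dvd hdv) (by norm_num)
  generalize charDegree (χ : Spor.Fi24' → ℂ) = d at *
  obtain ⟨k, rfl⟩ : ∃ k, d = 29 * k := ⟨d / 29, by omega⟩
  have hk : k < 483 := by omega
  have hk0 : k ≠ 0 := by rintro rfl; exact hpos (by norm_num)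
  have h4 := List.all_eq_true.1 chk k (List.mem_range.2 hk)
  have e1 : (1255205709190661721292800 % (29 * k) == 0) = true := by
    rw [beq_iff_eq]; exact Nat.mod_eq_zero_of_dvd hdv
  have e2 : (k == 0) = false := by rw [beq_eq_false_iff_ne]; exact hk0
  have e3 : ((29 * k) % 23 == 0 || (29 * k) % 23 == 1) = true := by
    rcases h23 with ⟨h, -⟩ | ⟨h, -⟩ <;> rw [h] <;> rfl
  have e4 : ((29 * k) % 17 == 0 || (29 * k) % 17 == 1 || (29 * k) % 17 == 16) = true := by
    rcases h17 with h | h | h <;> rw [h] <;> rfl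
  rw [e1, e2, e3, e4] at h4
  simp only [Bool.not_true, Bool.or_self, Bool.false_or, Bool.or_eq_true, beq_iff_eq] at h4
  rcases h4 with (((h4 | h4) | h4) | h4) | h4
  · subst h4; exfalso; omega
  · subst h4; exfalso; omega
  · subst h4; exfalso; omega
  · subst h4
    rcases h23 with ⟨-, h⟩ | ⟨h, -⟩
    · exact Or.inl ⟨by norm_num, h⟩
    · exfalso; omega
  · subst h4
    rcases h23 with ⟨h, -⟩ | ⟨-, h⟩
    · exfalso; omega
    · exact Or.inr ⟨by norm_num, h⟩

/-- **the sieve** -/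
theorem exists_odd_of_char [Fintype Spor.Fi24'] {psi : Spor.Fi24' → ℂ} (hpsi : IsCharacter Spor.Fi24' psi) {D : ℕ}
    (h1 : psi 1 = D) (hD : Odd D) (hD2 : D ≤ 71483) {y : Spor.Fi24'} (hy : orderOf y = 23) {b : ℤ} (hb : psi y = b)
    (hb' : Odd b ∨ b < 0) {chi0 : IrrCharacter Spor.Fi24'} (hc0 : charDegree (chi0 : Spor.Fi24' → ℂ) = 57477)
    (hin : classInner psi (chi0 : Spor.Fi24' → ℂ) ≠ 0) :
    ∃ χ : IrrCharacter Spor.Fi24', ¬ 2 ∣ charDegree (χ : Spor.Fi24' → ℂ) ∧ ¬ 7 ∣ charDegree (χ : Spor.Fi24' → ℂ) ∧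
      charDegree (χ : Spor.Fi24' → ℂ) ≠ 1 := by
  classical
  by_contra hcon
  push Not at hcon
  have hfin : Finite Spor.Fi24' := fin
  have : Finite (IrrCharacter Spor.Fi24') := finite_irr
  have := Fintype.ofFinite (IrrCharacter Spor.Fi24')
  have hrho := OddOrderCharacters.Clifford.isCharacter_sub_irr hpsi chi0.2 hin
  have hd : ∀ η : IrrCharacter Spor.Fi24', (η : Spor.Fi24' → ℂ) 1 = (charDegree (η : Spor.Fi24' → ℂ) : ℂ) := fun η =>
    Blocks.Knorr.charDegree_eq η.2
  have h0y : (chi0 : Spor.Fi24' → ℂ) y = 0 :=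
    H813.K547.vanish chi0.2 (p := 23) (by norm_num) (by rw [card_G]; norm_num) (by rw [card_G]; norm_num)
      (by rw [hc0]; norm_num) (by rw [hy])
  obtain ⟨c, hc, -⟩ := CharDeep.CliffordCorr.exists_nat_coeffs hrho
  have hsum : D = 57477 + ∑ η : IrrCharacter Spor.Fi24', c η * charDegree (η : Spor.Fi24' → ℂ) := by
    have h2 := congrFun hc 1
    rw [Pi.sub_apply, h1, hd chi0, hc0, Finset.sum_apply] at h2
    simp only [Pi.smul_apply, smul_eq_mul, hd] at h2
    have h3 : (D : ℂ) = 57477 + ∑ η : IrrCharacter Spor.Fi24', (c η : ℂ) * (charDegree (η : Spor.Fi24' → ℂ) : ℂ) := by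
      rw [← h2]; push_cast; ring
    exact_mod_cast h3
  have hval : (b : ℂ) = ∑ η : IrrCharacter Spor.Fi24', (c η : ℂ) * (η : Spor.Fi24' → ℂ) y := by
    have h2 := congrFun hc y
    rw [Pi.sub_apply, hb, h0y, sub_zero, Finset.sum_apply] at h2
    exact h2
  -- the constituents
  have hcase : ∀ η : IrrCharacter Spor.Fi24', ∃ v : ℕ, (c η : ℂ) * (η : Spor.Fi24' → ℂ) y = v ∧
      v % 2 = (c η * charDegree (η : Spor.Fi24' → ℂ)) % 2 := by
    intro η
    rcases Nat.eq_zero_or_pos (c η) with h0 | h0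
    · exact ⟨0, by rw [h0]; simp, by rw [h0]; simp⟩
    by_cases hη : (η : Spor.Fi24' → ℂ) = 1
    · have hd1 : charDegree (η : Spor.Fi24' → ℂ) = 1 := by
        have h2 := hd η
        rw [hη, Pi.one_apply] at h2
        rw [hη]
        exact_mod_cast h2.symm
      exact ⟨c η, by rw [hη, Pi.one_apply, mul_one], by rw [hd1, mul_one]⟩
    · have h2 : c η * charDegree (η : Spor.Fi24' → ℂ) ≤ D - 57477 := by
        have h3 := Finset.single_le_sum (f := fun η : IrrCharacter Spor.Fi24' => c η * charDegree (η : Spor.Fi24' → ℂ))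
          (fun _ _ => Nat.zero_le _) (Finset.mem_univ η)
        have h4 : c η * charDegree (η : Spor.Fi24' → ℂ) ≤
            ∑ η : IrrCharacter Spor.Fi24', c η * charDegree (η : Spor.Fi24' → ℂ) := h3
        omega
      have h3 : charDegree (η : Spor.Fi24' → ℂ) ≤ 14006 :=
        (Nat.le_mul_of_pos_left _ h0).trans (h2.trans (by omega))
      have hne1 : charDegree (η : Spor.Fi24' → ℂ) ≠ 1 := by
        intro h4
        have h5 := dvd29 hη (by omega)
        rw [h4] at h5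
        omega
      have hno : 2 ∣ charDegree (η : Spor.Fi24' → ℂ) ∨ 7 ∣ charDegree (η : Spor.Fi24' → ℂ) := by
        by_contra hh
        push Not at hh
        exact hne1 (hcon η hh.1 hh.2)
      rcases small hη h3 hno hy with ⟨h4, h5⟩ | ⟨h4, h5⟩
      · refine ⟨0, by rw [h5, mul_zero, Nat.cast_zero], ?_⟩
        obtain ⟨e, he⟩ := h4
        rw [he, show c η * (2 * e) = 2 * (c η * e) by ring]
        simp
      · refine ⟨c η, by rw [h5, mul_one], ?_⟩
        rw [Nat.mul_mod, show charDegree (η : Spor.Fi24' → ℂ) % 2 = 1 by omega]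
        simp
  choose v hv hv2 using hcase
  have hb1 : b = ((∑ η : IrrCharacter Spor.Fi24', v η : ℕ) : ℤ) := by
    have h2 : (b : ℂ) = ((∑ η : IrrCharacter Spor.Fi24', v η : ℕ) : ℂ) := by
      rw [hval, Finset.sum_congr rfl fun η _ => hv η]
      push_cast; rfl
    exact_mod_cast h2
  have hpar : (∑ η : IrrCharacter Spor.Fi24', v η) % 2 =
      (∑ η : IrrCharacter Spor.Fi24', c η * charDegree (η : Spor.Fi24' → ℂ)) % 2 := by
    rw [Finset.sum_nat_mod, Finset.sum_congr rfl fun η _ => hv2 η, ← Finset.sum_nat_mod]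
  rcases hb' with h | h
  · rw [hb1] at h
    have h2 : Odd (∑ η : IrrCharacter Spor.Fi24', v η) := by exact_mod_cast h
    rw [Nat.odd_iff] at h2 hD
    omega
  · rw [hb1] at h
    omega

end Cfsg.Agent.H713.SB.FiSeven
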