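import Cfsg.Agent.H468.K6.FiSeven

/-!
# `Fi24'`, `p = 7`: a 7-subgroup whose centralizer is a 7-group (helper713)
-/

set_option autoImplicit false
set_option maxRecDepth 100000

open Cfsg Subgroup

namespace Cfsg.Agent.H713.SB.FiFull

open Cfsg.Agent.H468.K6.Fi
open Cfsg.Agent.H842.Seven Cfsg.Agent.H842.SevenSyl
open Equiv

/-- a permutation of 7 points commuting with the 7-cycle has order dividing 7 -/
theorem sg_pow (k : Fin 7) : (sg ^ (k : ℕ)) 0 = k := by
  revert k
  decide +kernel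

theorem comm_sg {σ : Perm (Fin 7)} (h : σ * sg = sg * σ) : σ ^ 7 = 1 := by
  have hc : Commute σ sg := h
  have h1 : σ = sg ^ ((σ 0 : Fin 7) : ℕ) := by
    ext i
    have h2 : (sg ^ (i : ℕ)) 0 = i := sg_pow i
    have h3 : σ i = (sg ^ (i : ℕ)) (σ 0) := by
      calc σ i = σ ((sg ^ (i : ℕ)) 0) := by rw [h2]
        _ = (σ * sg ^ (i : ℕ)) 0 := rfl
        _ = (sg ^ (i : ℕ) * σ) 0 := by rw [(hc.pow_right _).eq]
        _ = _ := rfl
    rw [h3]
    have h4 : (sg ^ ((σ 0 : Fin 7) : ℕ)) i = (sg ^ (i : ℕ)) (σ 0) := by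
      calc (sg ^ ((σ 0 : Fin 7) : ℕ)) i = (sg ^ ((σ 0 : Fin 7) : ℕ)) ((sg ^ (i : ℕ)) 0) := by rw [h2]
        _ = (sg ^ ((σ 0 : Fin 7) : ℕ) * sg ^ (i : ℕ)) 0 := rfl
        _ = (sg ^ (i : ℕ) * sg ^ ((σ 0 : Fin 7) : ℕ)) 0 := by rw [← pow_add, ← pow_add, add_comm]
        _ = (sg ^ (i : ℕ)) ((sg ^ ((σ 0 : Fin 7) : ℕ)) 0) := rfl
        _ = _ := by rw [sg_pow (σ 0)]
    rw [h4]
  have h2 : sg ^ 7 = 1 := by decide +kernel
  rw [h1, ← pow_mul, mul_comm, pow_mul, h2, one_pow]

/-- **`Fi24'`, `p = 7`.** -/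
theorem full_seven : ∃ U : Subgroup Spor.Fi24', IsPGroup 7 U ∧ IsPGroup 7 (centralizer (U : Set Spor.Fi24')) := by
  have key : ∀ n : Spor.Fi24', n ∈ centralizer ((closure {yy, cc} : Subgroup Spor.Fi24') : Set Spor.Fi24') → n ^ 7 = 1 := by
    intro n hn
    rw [mem_centralizer_iff] at hn
    have hy : (n : Spor.Fi24) * y7 = y7 * n := (congrArg Subtype.val (hn yy (subset_closure (by simp)))).symm
    have hc : (n : Spor.Fi24) * c = c * n := (congrArg Subtype.val (hn cc (subset_closure (by simp)))).symm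
    obtain ⟨i, σ, hi⟩ := exists_of_comm7 hy
    have h1 : Commute (y7 ^ i) c := (show Commute y7 c from c_y7.symm).pow_left i
    have h2 : Psi σ * c = c * Psi σ := by
      have h3 : y7 ^ i * (Psi σ * c) = y7 ^ i * (c * Psi σ) := by
        calc y7 ^ i * (Psi σ * c) = (n : Spor.Fi24) * c := by rw [hi, mul_assoc]
          _ = c * n := hc
          _ = (c * y7 ^ i) * Psi σ := by rw [hi, mul_assoc]
          _ = (y7 ^ i * c) * Psi σ := by rw [h1.eq]
          _ = _ := mul_assoc _ _ _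
      exact mul_left_cancel h3
    have h3 : σ * sg = sg * σ := by
      apply Psi_injective
      rw [map_mul, map_mul]
      have h4 : Psi sg = c := c_eq.symm
      rw [h4]
      exact h2
    have h4 := comm_sg h3
    have h5 : Commute (y7 ^ i) (Psi σ) := (y7_Psi σ).symm.pow_left i
    apply Subtype.ext
    show (n : Spor.Fi24) ^ 7 = 1
    rw [hi, h5.mul_pow, ← map_pow, h4, map_one, mul_one, ← pow_mul, mul_comm, pow_mul, y7_pow, one_pow]
  refine ⟨closure {yy, cc}, ?_, ?_⟩
  · intro g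
    refine ⟨1, ?_⟩
    apply Subtype.ext
    show (g : Spor.Fi24') ^ (7 ^ 1) = 1
    rw [pow_one]
    apply key
    have hcm : ∀ x ∈ ({yy, cc} : Set Spor.Fi24'), ∀ y ∈ ({yy, cc} : Set Spor.Fi24'), x * y = y * x := by
      intro x hx y hy
      have h1 : cc * yy = yy * cc := Subtype.ext c_y7
      rcases hx with rfl | hx
      · rcases hy with rfl | hy
        · rfl
        · rw [Set.mem_singleton_iff.1 hy]; exact h1.symm
      · rw [Set.mem_singleton_iff.1 hx]
        rcases hy with rfl | hy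
        · exact h1
        · rw [Set.mem_singleton_iff.1 hy]
    have h2 : closure ({yy, cc} : Set Spor.Fi24') ≤ centralizer ({yy, cc} : Set Spor.Fi24') := by
      rw [closure_le]
      intro x hx
      rw [SetLike.mem_coe, mem_centralizer_iff]
      intro y hy
      exact hcm y hy x hx
    rw [centralizer_closure]
    exact h2 g.2
  · intro g
    refine ⟨1, ?_⟩
    apply Subtype.ext
    show (g : Spor.Fi24') ^ (7 ^ 1) = 1
    rw [pow_one]
    exact key g g.2

end Cfsg.Agent.H713.SB.FiFull
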